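import Mathlib

/-!
# Order 459648 = 2^7 * 3^3 * 7 * 19 (S1022): common instances

Only the `Fact` instances that the piece signatures need (`Sylow 19 G` etc.).
-/

set_option autoImplicit false

namespace Cfsg.Agent.Lib.Helper28.Ord459648

instance fact19 : Fact (Nat.Prime 19) := ⟨by norm_num⟩
instance fact3 : Fact (Nat.Prime 3) := ⟨Nat.prime_three⟩
instance fact2 : Fact (Nat.Prime 2) := ⟨Nat.prime_two⟩

end Cfsg.Agent.Lib.Helper28.Ord459648
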