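import Cfsg.Agent.Lib.Helper28.Ord459648.Tools
import Cfsg.Agent.Lib.Helper16.Ord459648P2a
import Cfsg.Agent.Lib.Helper26.Ord459648P2b
import Cfsg.Agent.Lib.Helper9.Ord459648P2c

/-!
# S1022 (order 459648): Lemma A' (helper28)

An involution centralizing a Sylow 19-subgroup `P` centralizes no other Sylow 19-subgroup.
Pieces: [P2a] helper16 (transfer in a group of order 7296), [P2b] helper26 (index 21),
[P2c] helper9 (centralizers in 2-groups).
-/

set_option autoImplicit false

namespace Cfsg.Agent.Lib.Helper28.Ord459648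

open Cfsg.Agent.Lib.Helper7 H28

variable {G : Type*} [Group G] [Finite G]

/-- [P2d] Lemma A', from the facts about `N` and `C`. -/
theorem sylow19_eq_of_invol_of [IsSimpleGroup G] (hG : Nat.card G = 459648) (P R : Sylow 19 G)
    (hN : Nat.card (Subgroup.normalizer ((P : Subgroup G) : Set G)) = 456)
    (hC : Nat.card (Subgroup.centralizer ((P : Subgroup G) : Set G)) = 76 ∨
      Nat.card (Subgroup.centralizer ((P : Subgroup G) : Set G)) = 152 ∨
      Nat.card (Subgroup.centralizer ((P : Subgroup G) : Set G)) = 228)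
    (x : G) (hx : orderOf x = 2)
    (hxP : x ∈ Subgroup.centralizer ((P : Subgroup G) : Set G))
    (hxR : x ∈ Subgroup.centralizer ((R : Subgroup G) : Set G)) : R = P := by
  classical
  set N := Subgroup.normalizer ((P : Subgroup G) : Set G) with hNdef
  set C := Subgroup.centralizer ((P : Subgroup G) : Set G) with hCdef
  set L := Subgroup.centralizer ({x} : Set G) with hLdef
  have hP19 := card_sylow19 hG P
  -- P, R ≤ L
  have hPL : (P : Subgroup G) ≤ L := by
    intro p hp
    rw [hLdef, Subgroup.mem_centralizer_iff]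
    intro y hy
    rw [Set.mem_singleton_iff] at hy
    subst hy
    exact ((Subgroup.mem_centralizer_iff.mp hxP) p hp).symm
  have hRL : (R : Subgroup G) ≤ L := by
    intro p hp
    rw [hLdef, Subgroup.mem_centralizer_iff]
    intro y hy
    rw [Set.mem_singleton_iff] at hy
    subst hy
    exact ((Subgroup.mem_centralizer_iff.mp hxR) p hp).symm
  have hxL : x ∈ L := by
    rw [hLdef, Subgroup.mem_centralizer_iff]
    intro y hy
    rw [Set.mem_singleton_iff] at hy
    subst hy
    rfl
  -- Sylow subgroups of L
  let P' : Sylow 19 L := P.subtype hPL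
  let R' : Sylow 19 L := R.subtype hRL
  set n := Nat.card (Sylow 19 L) with hn
  have hmod : n ≡ 1 [MOD 19] := card_sylow_modEq_one 19 L
  -- |L| = n * |N ⊓ L|
  have hnorm : Subgroup.normalizer ((P' : Subgroup L) : Set L) = N.subgroupOf L := by
    rw [Sylow.coe_subtype, ← Subgroup.subgroupOf_normalizer_eq hPL]
  have hcardL : n * Nat.card ↥(N ⊓ L) = Nat.card L := by
    have h1 : n = (Subgroup.normalizer ((P' : Subgroup L) : Set L)).index :=
      Sylow.card_eq_index_normalizer P'
    rw [h1, hnorm, ← card_subgroupOf_eq_card_inf, mul_comm]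
    exact Subgroup.card_mul_index _
  set m := Nat.card ↥(N ⊓ L) with hm
  have hLdvd : Nat.card L ∣ 459648 := hG ▸ Subgroup.card_subgroup_dvd_card L
  have hm456 : m ∣ 456 := hN ▸ Subgroup.card_dvd_of_le (inf_le_left : N ⊓ L ≤ N)
  -- 76 ∣ |C ⊓ L| ∣ m
  have hC4 : 4 ∣ Nat.card C := by
    rcases hC with h | h | h <;> rw [h] <;> norm_num
  have h4 : 4 ∣ Nat.card ↥(C ⊓ L) := four_dvd_card_inf_centralizer C hC4 x hxP hx
  have hPC : (P : Subgroup G) ≤ C := by
    haveI : Fact (Nat.card (P : Subgroup G)).Prime := ⟨by rw [hP19]; norm_num⟩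
    haveI : IsCyclic (P : Subgroup G) := isCyclic_of_prime_card rfl
    haveI : IsMulCommutative (P : Subgroup G) := ⟨⟨IsCyclic.commGroup.mul_comm⟩⟩
    exact Subgroup.le_centralizer _
  have h19 : 19 ∣ Nat.card ↥(C ⊓ L) := by
    have := Subgroup.card_dvd_of_le (le_inf hPC hPL)
    rwa [hP19] at this
  have h76 : 76 ∣ Nat.card ↥(C ⊓ L) := by
    have : Nat.Coprime 4 19 := by norm_num
    exact this.mul_dvd_of_dvd_of_dvd h4 h19
  have hCN : C ≤ N := Subgroup.centralizer_le_normalizer _
  have hCLNL : C ⊓ L ≤ N ⊓ L := inf_le_inf_right L hCN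
  have hclm : Nat.card ↥(C ⊓ L) ∣ m := Subgroup.card_dvd_of_le hCLNL
  have h76m : 76 ∣ m := h76.trans hclm
  -- n ∈ {1, 96, 1008}
  have hn24192 : n ∣ 24192 := by
    have h1 : n * m ∣ 459648 := hcardL ▸ hLdvd
    obtain ⟨k, hk⟩ := h76m
    rw [hk] at h1
    have h2 : n * 19 ∣ 459648 := Dvd.dvd.trans ⟨4 * k, by ring⟩ h1
    exact Nat.dvd_of_mul_dvd_mul_right (by norm_num : 0 < 19) (by simpa using h2)
  have hnpos : n ≠ 0 := by
    intro h0
    rw [h0] at hn24192
    norm_num at hn24192
  have hcases := divisors_24192_mod19 n (Nat.mem_divisors.mpr ⟨hn24192, by norm_num⟩) hmod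
  rcases hcases with h1 | h96 | h1008
  · -- n = 1 : unique Sylow
    have hsub : Subsingleton (Sylow 19 L) := by
      rw [← Finite.card_le_one_iff_subsingleton, ← hn, h1]
    have hPR : R' = P' := Subsingleton.elim _ _
    exact Sylow.subtype_injective hPR
  · -- n = 96
    exfalso
    rw [h96] at hcardL
    have hm4788 : m ∣ 4788 := by
      have h1 : 96 * m ∣ 96 * 4788 := by rw [hcardL]; exact hLdvd
      exact Nat.dvd_of_mul_dvd_mul_left (by norm_num) h1
    have hm228 : m ∣ 228 := by
      have := Nat.dvd_gcd hm4788 hm456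
      norm_num at this
      exact this
    obtain ⟨k, hk⟩ := h76m
    have hk3 : k ∣ 3 := by
      rw [hk] at hm228
      exact Nat.dvd_of_mul_dvd_mul_left (by norm_num : 0 < 76) (by simpa using hm228)
    have hk13 : k = 1 ∨ k = 3 := by
      have hle := Nat.le_of_dvd (by norm_num) hk3
      interval_cases k
      · norm_num at hk3
      · left; rfl
      · norm_num at hk3
      · right; rfl
    rcases hk13 with hk1 | hk3'
    · -- m = 76: transfer in L
      have hm76 : m = 76 := by rw [hk, hk1]
      have hcl : Nat.card ↥(C ⊓ L) = 76 := by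
        have h1 : Nat.card ↥(C ⊓ L) ∣ 76 := hm76 ▸ hclm
        exact Nat.dvd_antisymm h1 h76
      have heq : C ⊓ L = N ⊓ L :=
        Subgroup.eq_of_le_of_card_ge hCLNL (by rw [← hm, hm76, hcl])
      have hcardL' : Nat.card L = 7296 := by rw [← hcardL, hm76]
      have hcent : Subgroup.centralizer ((P' : Subgroup L) : Set L) = C.subgroupOf L := by
        rw [Sylow.coe_subtype, centralizer_subgroupOf_eq hPL]
      have hNC : Subgroup.normalizer ((P' : Subgroup L) : Set L) ≤
          Subgroup.centralizer ((P' : Subgroup L) : Set L) := by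
        rw [hnorm, hcent, ← Subgroup.inf_subgroupOf_right N L, ← heq,
          Subgroup.inf_subgroupOf_right]
      have h3 := three_dvd_card_centralizer_of_card_7296 hcardL' P' hNC
      rw [hcent, card_subgroupOf_eq_card_inf, hcl] at h3
      norm_num at h3
    · -- m = 228: index 21
      have hm228' : m = 228 := by rw [hk, hk3']
      have hcardL' : Nat.card L = 21888 := by rw [← hcardL, hm228']
      have hidx : L.index = 21 := by
        have := Subgroup.card_mul_index L
        rw [hcardL', hG] at this
        omega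
      have h38 := card_centralizer_dvd_38_of_index_21 hG L hidx P
      rcases hC with h | h | h <;> rw [← hCdef, h] at h38 <;> norm_num at h38
  · -- n = 1008
    exfalso
    rw [h1008] at hcardL
    have hLtop : L ≠ ⊤ := by
      intro htop
      have hxc : x ∈ Subgroup.center G := by
        rw [Subgroup.mem_center_iff]
        intro g
        have hg : g ∈ L := by rw [htop]; exact Subgroup.mem_top g
        rw [hLdef, Subgroup.mem_centralizer_iff] at hg
        exact (hg x rfl).symm
      rcases (Subgroup.Normal.eq_bot_or_eq_top (inferInstance : (Subgroup.center G).Normal))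
        with hb | ht
      · rw [hb, Subgroup.mem_bot] at hxc
        rw [hxc, orderOf_one] at hx
        norm_num at hx
      · apply not_isMulCommutative hG
        refine ⟨⟨fun a b => ?_⟩⟩
        have ha : a ∈ Subgroup.center G := by rw [ht]; exact Subgroup.mem_top a
        exact ((Subgroup.mem_center_iff.mp ha) b).symm
    have h6 := six_lt_index hG L hLtop
    have hidx := Subgroup.card_mul_index L
    rw [← hcardL, hG] at hidx
    obtain ⟨k, hk⟩ := h76m
    rw [hk] at hidx
    have hkpos : 0 < k := by
      rcases Nat.eq_zero_or_pos k with h0 | h0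
      · rw [h0] at hidx; omega
      · exact h0
    nlinarith


end Cfsg.Agent.Lib.Helper28.Ord459648
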