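import Cfsg.Agent.Lib.Helper28.Ord459648.LemmaA
import Cfsg.Agent.Lib.Helper10.Ord459648P1a
import Cfsg.Agent.Lib.Helper20.Ord459648P3

/-!
# S1022: there is no simple group of order 459648 = 2^7 * 3^3 * 7 * 19 (assembly, helper28)

Proof (notes/S1022_proof_helper28.md): `|N(P)| = 456` for a Sylow 19-subgroup `P` ([P1a], helper10),
`|C(P)| ∈ {76, 152, 228}` (`H28.card_centralizer_sylow19_of`), an involution of `C(P)` centralizes
no other Sylow 19-subgroup (`sylow19_eq_of_invol_of`), and then a Sylow 2-argument ([P3], helper20).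
-/

set_option autoImplicit false

namespace Cfsg.Agent.Lib.Helper28.Ord459648

variable {G : Type*} [Group G] [Finite G]

theorem main [IsSimpleGroup G] : Nat.card G ≠ 459648 := by
  intro hG
  obtain ⟨P⟩ : Nonempty (Sylow 19 G) := inferInstance
  have hN := card_normalizer_sylow19 hG P
  have hC := H28.card_centralizer_sylow19_of hG P hN
  refine false_of_facts hG P hN ?_
    (fun R x hx hxP hxR => sylow19_eq_of_invol_of hG P R hN hC x hx hxP hxR)
  rcases hC with h | h | h <;> rw [h] <;> norm_num

end Cfsg.Agent.Lib.Helper28.Ord459648
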