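import Cfsg.Agent.Lib.Helper28.Ord459648.Basic
import Cfsg.Agent.Lib.Helper7.PrimeSylowNC
import Cfsg.Agent.S0991

/-!
# S1022 (order 459648): auxiliary lemmas (helper28)

Numerics, non-commutativity, "no subgroup of index at most 6", centralizers in a subgroup,
`|N : C|` for a Sylow 19-subgroup.
-/

set_option autoImplicit false

namespace Cfsg.Agent.Lib.Helper28.Ord459648.H28

open Cfsg.Agent.Lib.Helper7

variable {G : Type*} [Group G] [Finite G]

theorem divisors_24192_mod19 :
    ∀ d ∈ Nat.divisors 24192, d % 19 = 1 → d = 1 ∨ d = 96 ∨ d = 1008 := by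
  decide +kernel

omit [Finite G] in
theorem not_isMulCommutative [IsSimpleGroup G] (hG : Nat.card G = 459648) :
    ¬ IsMulCommutative G := by
  intro h
  let _ : CommGroup G := { ‹Group G› with mul_comm := h.is_comm.comm }
  have hprime : (Nat.card G).Prime := IsSimpleGroup.prime_card
  rw [hG] at hprime
  norm_num at hprime

/-- A simple group of order 459648 has no proper subgroup of index at most 6. -/
theorem six_lt_index [IsSimpleGroup G] (hG : Nat.card G = 459648) (L : Subgroup G)
    (hL : L ≠ ⊤) : 6 < L.index := by
  by_contra hle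
  push Not at hle
  obtain ⟨f, hf⟩ := Cfsg.Agent.S0991.result (not_isMulCommutative hG) L hL
  have h1 : Nat.card G ∣ Nat.card (alternatingGroup (Fin L.index)) :=
    Subgroup.card_dvd_of_injective f hf
  have h2 : Nat.card (alternatingGroup (Fin L.index)) ∣ Nat.card (Equiv.Perm (Fin L.index)) :=
    Subgroup.card_subgroup_dvd_card _
  have h3 : Nat.card (Equiv.Perm (Fin L.index)) = (L.index).factorial := by
    rw [Nat.card_eq_fintype_card, Fintype.card_perm, Fintype.card_fin]
  rw [h3] at h2
  have h4 := h1.trans h2
  rw [hG] at h4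
  have h5 : (L.index).factorial ∣ (6 : ℕ).factorial := Nat.factorial_dvd_factorial hle
  have h6 := h4.trans h5
  norm_num [Nat.factorial] at h6

theorem centralizer_subgroupOf_eq {H L : Subgroup G} (h : H ≤ L) :
    Subgroup.centralizer ((H.subgroupOf L : Subgroup L) : Set L) =
      (Subgroup.centralizer (H : Set G)).subgroupOf L := by
  ext l
  rw [Subgroup.mem_subgroupOf, Subgroup.mem_centralizer_iff, Subgroup.mem_centralizer_iff]
  constructor
  · intro hl y hy
    have := hl ⟨y, h hy⟩ (by simpa [Subgroup.mem_subgroupOf] using hy)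
    exact congrArg Subtype.val this
  · intro hl y hy
    have hy' : (y : G) ∈ H := by simpa [Subgroup.mem_subgroupOf] using hy
    exact Subtype.ext (hl y hy')

theorem card_subgroupOf_eq_card_inf (H L : Subgroup G) :
    Nat.card (H.subgroupOf L) = Nat.card ↥(H ⊓ L) := by
  rw [← Subgroup.inf_subgroupOf_right]
  exact Nat.card_congr (Subgroup.subgroupOfEquivOfLe inf_le_right).toEquiv

theorem card_sylow19 (hG : Nat.card G = 459648) (P : Sylow 19 G) :
    Nat.card (P : Subgroup G) = 19 :=
  card_eq_prime_of_sylow P (by rw [hG]; norm_num) (by rw [hG]; norm_num)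

omit [Finite G] in
/-- `|C| * [N : C] = |N|`. -/
theorem card_centralizer_mul_relIndex (S : Subgroup G) :
    Nat.card (Subgroup.centralizer (S : Set G)) *
      (Subgroup.centralizer (S : Set G)).relIndex (Subgroup.normalizer (S : Set G)) =
    Nat.card (Subgroup.normalizer (S : Set G)) := by
  have hle : Subgroup.centralizer (S : Set G) ≤ Subgroup.normalizer (S : Set G) :=
    Subgroup.centralizer_le_normalizer _
  have h1 := Subgroup.card_mul_index
    ((Subgroup.centralizer (S : Set G)).subgroupOf (Subgroup.normalizer (S : Set G)))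
  rw [Nat.card_congr (Subgroup.subgroupOfEquivOfLe hle).toEquiv] at h1
  exact h1

/-- [P1b] given [P1a]. -/
theorem card_centralizer_sylow19_of [IsSimpleGroup G] (hG : Nat.card G = 459648) (P : Sylow 19 G)
    (hN : Nat.card (Subgroup.normalizer ((P : Subgroup G) : Set G)) = 456) :
    Nat.card (Subgroup.centralizer ((P : Subgroup G) : Set G)) = 76 ∨
    Nat.card (Subgroup.centralizer ((P : Subgroup G) : Set G)) = 152 ∨
    Nat.card (Subgroup.centralizer ((P : Subgroup G) : Set G)) = 228 := by
  have hP := card_sylow19 hG P
  have hrel := relIndex_centralizer_normalizer_dvd_sub_one (P : Subgroup G) (by norm_num) hP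
  have hmul := card_centralizer_mul_relIndex (P : Subgroup G)
  rw [hN] at hmul
  set e := (Subgroup.centralizer ((P : Subgroup G) : Set G)).relIndex
    (Subgroup.normalizer ((P : Subgroup G) : Set G)) with he
  set c := Nat.card (Subgroup.centralizer ((P : Subgroup G) : Set G)) with hc
  have he18 : e ∣ 18 := hrel
  have he456 : e ∣ 456 := Dvd.intro_left _ hmul
  have he6 : e ∣ 6 := by
    have := Nat.dvd_gcd he18 he456
    norm_num at this
    exact this
  have hele : e ≤ 6 := Nat.le_of_dvd (by norm_num) he6
  have he1 : e ≠ 1 := by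
    intro h1
    have hNle : Subgroup.normalizer ((P : Subgroup G) : Set G) ≤
        Subgroup.centralizer ((P : Subgroup G) : Set G) := Subgroup.relIndex_eq_one.mp h1
    rcases sylow_eq_bot_or_top_of_normalizer_le_centralizer P hNle with h | h
    · rw [h, Subgroup.card_bot] at hP
      omega
    · rw [h, Subgroup.card_top, hG] at hP
      omega
  interval_cases e
  · simp at he6
  · exact absurd rfl he1
  · right; right; omega
  · right; left; omega
  · norm_num at he6
  · norm_num at he6
  · left; omega

end Cfsg.Agent.Lib.Helper28.Ord459648.H28
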